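import Groth.Agent.Lib.ExtZero.ModSite
import Groth.Prelude.Def_ModSite2
import Mathlib.CategoryTheory.Sites.Point.Over
import Mathlib.Algebra.Category.Grp.Colimits

/-!
# Stalks of extensions by zero
-/

set_option autoImplicit false
set_option linter.style.haveILetI false
set_option linter.unusedSectionVars false

universe u

open CategoryTheory CategoryTheory.Limits Opposite

namespace Groth.Agent.Lib.ExtZeroStalk

open Groth.Agent.Lib.ExtZero Groth.Agent.Lib.ExtZero.Presheaf

variable {C : Type u} [SmallCategory C] {J : GrothendieckTopology C} {U : C}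
  {R : Cᵒᵖ ⥤ RingCat.{u}} (P : PMU R U) (p : GrothendieckTopology.Point.{u} J)

/-- The stalks at the points over `p`. -/
noncomputable abbrev F (x : p.fiber.obj U) : AddCommGrpCat.{u} := (p.over x).presheafFiber.obj P.presheaf

/-- The germ on a summand. -/
noncomputable def germ (x : p.fiber.obj U) (W : Over U) (y : (p.over x).fiber.obj W) :
    P.presheaf.obj (op W) ⟶ ∐ F P p :=
  (p.over x).toPresheafFiber W y P.presheaf ≫ Sigma.ι (F P p) x

lemma germ_congr {x x' : p.fiber.obj U} (h : x = x') (W : Over U)
    (y : (p.over x).fiber.obj W) (y' : (p.over x').fiber.obj W) (hy : y.1 = y'.1) :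
    germ P p x W y = germ P p x' W y' := by
  subst h
  rw [Subtype.ext hy]

lemma germ_map {x : p.fiber.obj U} {W W' : Over U} (f : W' ⟶ W) (y : (p.over x).fiber.obj W') :
    P.presheaf.map f.op ≫ germ P p x W' y = germ P p x W ((p.over x).fiber.map f y) := by
  rw [germ, germ, GrothendieckTopology.Point.toPresheafFiber_w_assoc]

open Classical in
/-- The component of the map to the sum at an element of the fibre. -/
noncomputable def toSum (V : C) (y : p.fiber.obj V) : (absheaf P).obj (op V) ⟶ ∐ F P p :=
  AddCommGrpCat.ofHom (DirectSum.toAddMonoid fun φ : V ⟶ U =>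
    (germ P p (p.fiber.map φ y) (Over.mk φ) ⟨y, rfl⟩).hom)

lemma toSum_inc (V : C) (y : p.fiber.obj V) (φ : V ⟶ U) (z : Fib P (V := op V) φ) :
    toSum P p V y (inc P (V := op V) φ z) = germ P p (p.fiber.map φ y) (Over.mk φ) ⟨y, rfl⟩ z := by
  classical
  exact DirectSum.toAddMonoid_of _ φ z

lemma toSum_map {V V' : C} (g : V' ⟶ V) (y : p.fiber.obj V') :
    (absheaf P).map g.op ≫ toSum P p V' y = toSum P p V (p.fiber.map g y) := by
  refine AddCommGrpCat.hom_ext (sec_ext P fun φ z => ?_)
  change toSum P p V' y (secMap P g.op (inc P φ z)) = toSum P p V (p.fiber.map g y) (inc P φ z)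
  rw [secMap_inc P g.op φ (g ≫ φ) rfl z, toSum_inc]
  refine Eq.trans ?_ (toSum_inc P p V (p.fiber.map g y) φ z).symm
  let f : Over.mk (g ≫ φ) ⟶ Over.mk φ := Over.homMk g rfl
  have h := ConcreteCategory.congr_hom (germ_map P p f
    (⟨y, rfl⟩ : (p.over (p.fiber.map (g ≫ φ) y)).fiber.obj (Over.mk (g ≫ φ)))) z
  refine h.trans ?_
  exact congrArg (fun t : P.presheaf.obj (op (Over.mk φ)) ⟶ _ => t z)
    (germ_congr P p (p.fiber.map_comp_apply g φ y) (Over.mk φ) _ _ rfl)

/-- The map to the sum of the stalks. -/
noncomputable def hom : p.presheafFiber.obj (absheaf P) ⟶ ∐ F P p :=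
  p.presheafFiberDesc (toSum P p) (fun {X Y} f x => toSum_map P p f x)

/-- The component of the map from the sum. -/
noncomputable def ofStalk (x : p.fiber.obj U) : F P p x ⟶ p.presheafFiber.obj (absheaf P) :=
  (p.over x).presheafFiberDesc (fun W y => AddCommGrpCat.ofHom
      (((p.toPresheafFiber W.left y.1 (absheaf P)).hom).comp
        (inc P (V := op W.left) W.hom).toAddMonoidHom))
    (fun {W W'} f y => by
      refine AddCommGrpCat.hom_ext (AddMonoidHom.ext fun z => ?_)
      change p.toPresheafFiber W.left y.1 (absheaf P)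
          (inc P (V := op W.left) W.hom (P.presheaf.map f.op z)) =
        p.toPresheafFiber W'.left (p.fiber.map f.left y.1) (absheaf P)
          (inc P (V := op W'.left) W'.hom z)
      rw [← GrothendieckTopology.Point.toPresheafFiber_w_apply]
      exact congrArg (p.toPresheafFiber W.left y.1 (absheaf P))
        (secMap_inc P f.left.op W'.hom W.hom (Over.w f) z).symm)

lemma toFiber_ofStalk (x : p.fiber.obj U) (W : Over U) (y : (p.over x).fiber.obj W) :
    (p.over x).toPresheafFiber W y P.presheaf ≫ ofStalk P p x = AddCommGrpCat.ofHom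
      (((p.toPresheafFiber W.left y.1 (absheaf P)).hom).comp
        (inc P (V := op W.left) W.hom).toAddMonoidHom) :=
  colimit.ι_desc _ _

lemma ofStalk_germ (x : p.fiber.obj U) (W : Over U) (y : (p.over x).fiber.obj W)
    (z : P.presheaf.obj (op W)) :
    Sigma.desc (ofStalk P p) (germ P p x W y z) =
      p.toPresheafFiber W.left y.1 (absheaf P) (inc P (V := op W.left) W.hom z) := by
  have : germ P p x W y ≫ Sigma.desc (ofStalk P p) =
      (p.over x).toPresheafFiber W y P.presheaf ≫ ofStalk P p x := by
    rw [germ, Category.assoc, Sigma.ι_desc]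
  exact (ConcreteCategory.congr_hom this z).trans
    (ConcreteCategory.congr_hom ((p.over x).toPresheafFiber_presheafFiberDesc _ _ W y) z)

/-- The stalk of the presheaf extension by zero. -/
noncomputable def presheafIso : p.presheafFiber.obj (absheaf P) ≅ ∐ F P p where
  hom := hom P p
  inv := Sigma.desc (ofStalk P p)
  hom_inv_id := by
    refine GrothendieckTopology.Point.presheafFiber_hom_ext _ fun V y => ?_
    rw [Category.comp_id, ← Category.assoc]
    refine (congrArg (· ≫ _) (p.toPresheafFiber_presheafFiberDesc (toSum P p)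
      (fun {X Y} f x => toSum_map P p f x) V y)).trans ?_
    refine AddCommGrpCat.hom_ext (sec_ext P fun φ z => ?_)
    change Sigma.desc (ofStalk P p) (toSum P p V y (inc P φ z)) =
      p.toPresheafFiber V y (absheaf P) (inc P φ z)
    rw [toSum_inc, ofStalk_germ]
    rfl
  inv_hom_id := by
    refine Sigma.hom_ext _ _ fun x => ?_
    rw [Sigma.ι_desc_assoc, Category.comp_id]
    refine GrothendieckTopology.Point.presheafFiber_hom_ext _ fun W y => ?_
    rw [← Category.assoc, toFiber_ofStalk]
    refine AddCommGrpCat.hom_ext (AddMonoidHom.ext fun z => ?_)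
    change hom P p (p.toPresheafFiber W.left y.1 (absheaf P) (inc P (V := op W.left) W.hom z)) =
      germ P p x W y z
    have := ConcreteCategory.congr_hom (p.toPresheafFiber_presheafFiberDesc (toSum P p)
      (fun {X Y} f x => toSum_map P p f x) W.left y.1) (inc P (V := op W.left) W.hom z)
    refine this.trans ((toSum_inc P p W.left y.1 W.hom z).trans ?_)
    exact congrArg (fun t : P.presheaf.obj (op W) ⟶ _ => t z)
      (germ_congr P p y.2 W _ y rfl)

variable (O : Sheaf J CommRingCat.{u}) (U)

/-- The stalk of the extension by zero is the sum of the stalks. -/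
theorem nonempty_stalk_iso (G : _root_.ModSite.Mod (O.over U)) :
    Nonempty (_root_.ModSite.stalkAb p ((_root_.ModSite.extZero O U).obj G) ≅
      ∐ fun x : p.fiber.obj U => _root_.ModSite.stalkAb (p.over x) G) := by
  let P := (Sheaf.GU (_root_.ModSite.ringSh O) U).obj G
  let e₁ : _root_.ModSite.stalkAb p ((_root_.ModSite.extZero O U).obj G) ≅
      _root_.ModSite.stalkAb p ((ModSite.EZ O U).obj G) :=
    p.sheafFiber.mapIso ((SheafOfModules.toSheaf _).mapIso ((ModSite.extZeroIso O U).app G).symm)
  haveI : IsIso (p.presheafFiber.map (CategoryTheory.toSheafify J (absheaf P))) :=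
    p.W_isInvertedBy_presheafFiber' _ (J.W_toSheafify _)
  exact ⟨e₁ ≪≫ (asIso (p.presheafFiber.map (CategoryTheory.toSheafify J (absheaf P)))).symm ≪≫
    presheafIso P p⟩

end Groth.Agent.Lib.ExtZeroStalk
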